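import Cfsg.Agent.H509.WeakBlock_m3
import Cfsg.Agent.H326.Four.RowHe
import Cfsg.Agent.H19.Odd.HeEl7
import Cfsg.Agent.H19.Odd.HeCntD
import Cfsg.Agent.H19.Odd.Heis
import Cfsg.Agent.FastGrp
import Cfsg.Agent.Prune
set_option linter.all false
prune_inst 0x7f00000000000000000000000000000000000000000000000000000000000000000000000000000000000000000000000000000000000000000000000000000000000000000000000000000000000000003fffffffffffffffffffffffffffbeffbdffffffff
open scoped Cfsg.Agent.FastGrp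

/-!
# S4095 at the prime 2: the row of the Held group (helper736)

* `core_A` : `O_2(C(x)) = 1` for `x = d e` (class `3A`): its order is a power of 2 congruent to 1 modulo 5 and 7;
* `factA` : `Q = 7^{1+2} : 3^2`, order 3087;
* `factB` : `Y` = the elements `x` of order 3 with `O_2(C(x)) = 1`, through `C(V) = 2^2.L_3(4)`;
* `row` : the row.
-/

set_option autoImplicit false
set_option maxRecDepth 100000

namespace Cfsg.Agent.H736.S4095.He

open Subgroup Cfsg Cfsg.Agent.H516 Cfsg.Agent.H509.Weak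
open Cfsg.Spor.He (Gen)
open Cfsg.Agent.SporadicB.HePerm hiding wd
open Cfsg.Agent.SporadicB.HePerm (act wd)
open Cfsg.Agent.FixBN.HeStab Cfsg.Agent.KFacts.He.Lv Cfsg.Agent.CpAutHe.Cnt
open Cfsg.Agent.H19.Odd Cfsg.Agent.H19.Odd.HeCnt
open Cfsg.Agent.FixBN.HeData (p1W p2W zW)
open Cfsg.Agent.CpAutHe.Seven (ne_one_of_act)

universe u

/-! ### The words (checks: helper19) -/

local instance fin : Finite Spor.He := BpSpor.HeThree.finite_he

theorem one_of_chk {v : List Gen} (h : chkB v [] = true) : wd v = 1 := by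
  rw [eq_of_chkB h, wd_nil]

theorem pow_of_chk {v : List Gen} {n : ℕ} (h : chkB (pw v n) [] = true) : wd v ^ n = 1 := by
  rw [← wd_pw, one_of_chk h]

theorem comm_of_chk {v w : List Gen} (h : chkB (v ++ w) (w ++ v) = true) : Commute (wd v) (wd w) := by
  have := eq_of_chkB h
  rwa [wd_append, wd_append] at this

theorem conj_of_chk {g v w : List Gen} (h : chkB (g ++ v) (w ++ g) = true) : wd g * wd v * (wd g)⁻¹ = wd w := by
  have := eq_of_chkB h
  rw [wd_append, wd_append] at this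
  rw [this, mul_inv_cancel_right]

theorem orderOf_of {v : List Gen} {r : ℕ} (hr : r.Prime) (h1 : wd v ^ r = 1) (h2 : wd v ≠ 1) : orderOf (wd v) = r := by
  have : Fact r.Prime := ⟨hr⟩
  exact orderOf_eq_prime h1 h2

theorem not_dvd {r n : ℕ} (h : (4030387200 % r ^ n == 0) = false) : ¬ r ^ n ∣ Nat.card Cfsg.Spor.He := by
  rw [KFacts.He.Classes.card_he]
  intro h1
  rw [Nat.mod_eq_zero_of_dvd h1] at h
  exact absurd h (by decide)

/-! ### Order 3 (words of helper19) -/

def U3 : List Gen := [.f, .g, .c, .d, .f, .g, .c]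
def V3 : List Gen := [.b, .c, .b, .d, .e, .f, .d, .c, .b, .d, .c, .e, .d, .c, .d, .b, .c, .d, .f, .e, .d, .c, .d, .b, .c,
  .d, .c]
def G3u : List Gen := [.c, .g, .f]
def G3v : List Gen := [.c, .b, .d, .c, .e, .d, .g, .e, .d, .c, .d, .b, .c]
def G3a : List Gen := [.d, .c, .d, .c, .b, .d, .e, .f, .d, .c, .d, .f, .c, .d, .c, .d, .g, .b, .c]
def G3b : List Gen := [.d, .c, .b, .a, .d, .c, .b, .g, .d, .c, .d, .g, .c, .d, .c, .d, .f, .b, .c]

theorem A_pow : wd XA ^ 3 = 1 := pow_of_chk (by decide +kernel)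
theorem A_ne : wd XA ≠ 1 := ne_one_of_act 30 (by decide +kernel)
theorem U3_pow : wd U3 ^ 3 = 1 := pow_of_chk (by decide +kernel)
theorem V3_pow : wd V3 ^ 3 = 1 := pow_of_chk (by decide +kernel)
theorem A_U3 : Commute (wd XA) (wd U3) := comm_of_chk (by decide +kernel)
theorem A_V3 : Commute (wd XA) (wd V3) := comm_of_chk (by decide +kernel)
theorem U3_V3 : wd U3 * wd V3 = wd V3 * wd U3 * wd XA ^ 1 := by
  have h := eq_of_chkB (v := U3 ++ V3) (w := V3 ++ (U3 ++ XA)) (by decide +kernel)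
  rw [wd_append, wd_append, wd_append] at h
  rw [h, pow_one, mul_assoc]

theorem g3u : wd G3u * wd U3 * (wd G3u)⁻¹ = wd XA := conj_of_chk (by decide +kernel)
theorem g3v : wd G3v * wd V3 * (wd G3v)⁻¹ = wd XA := conj_of_chk (by decide +kernel)
theorem g3a : wd G3a * wd (V3 ++ U3) * (wd G3a)⁻¹ = wd XB := conj_of_chk (by decide +kernel)
theorem g3b : wd G3b * wd (V3 ++ (U3 ++ U3)) * (wd G3b)⁻¹ = wd XB := conj_of_chk (by decide +kernel)


def Uw : List Gen := [.b, .c, .d, .f, .d, .c, .e, .d, .e, .g, .d, .f, .c, .d, .g]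
def Vw : List Gen := [.b, .c, .f, .g, .d, .f, .g, .c]
def Aw : List Gen := [.b, .d, .g, .d, .c, .b, .e, .d, .c, .d, .b, .c, .d, .e, .b, .c, .d, .g, .e, .d]
def Bw : List Gen := [.c, .g, .d, .f, .d, .c, .e, .d, .c, .d, .b, .c, .d, .g, .c, .d, .e, .b, .a]

theorem u_pow : wd Uw ^ 7 = 1 := pow_of_chk (by decide +kernel)
theorem u_ne : wd Uw ≠ 1 := ne_one_of_act 0 (by decide +kernel)
theorem u_comm : Commute (wd Uw) (wd XA) := comm_of_chk (by decide +kernel)
theorem v_pow : wd Vw ^ 5 = 1 := pow_of_chk (by decide +kernel)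
theorem v_ne : wd Vw ≠ 1 := ne_one_of_act 0 (by decide +kernel)
theorem v_comm : Commute (wd Vw) (wd XA) := comm_of_chk (by decide +kernel)

theorem u_order : orderOf (wd Uw) = 7 := orderOf_of (by norm_num) u_pow u_ne
theorem v_order : orderOf (wd Vw) = 5 := orderOf_of (by norm_num) v_pow v_ne
theorem A_order : orderOf (wd XA) = 3 := orderOf_of (by norm_num) A_pow A_ne

/-! ### `O_2(C(x))` -/

/-- an involution commuting with an element of order 3 -/
theorem inv_three {x t : Spor.He} (hx : orderOf x = 3) (ht : orderOf t = 2) (hxt : x * t = t * x) :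
    Nat.card ↥(centralizer ({t} : Set Spor.He) ⊓ centralizer ({x} : Set Spor.He)) ∣ 288 := by
  have htt : t * t = 1 := by rw [← pow_two, ← ht, pow_orderOf_eq_one]
  have ht1 : t ≠ 1 := by
    rintro rfl
    rw [orderOf_one] at ht
    omega
  have key : ∀ s : Spor.He, IsConj s t →
      (∀ y : Spor.He, orderOf y = 3 → y * s = s * y →
        Nat.card ↥(centralizer ({s} : Set Spor.He) ⊓ centralizer ({y} : Set Spor.He)) ∣ 288) →
      Nat.card ↥(centralizer ({t} : Set Spor.He) ⊓ centralizer ({x} : Set Spor.He)) ∣ 288 := by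
    intro s hst h
    obtain ⟨g, rfl⟩ := isConj_iff.1 hst
    rw [BpSpor.Cen.card_inf_conj]
    apply h
    · rw [← hx]
      have := (MulAut.conj g⁻¹).orderOf_eq x
      rw [MulAut.conj_apply, inv_inv] at this
      exact this
    · calc g⁻¹ * x * g * s = g⁻¹ * (x * (g * s * g⁻¹)) * g := by group
        _ = g⁻¹ * (g * s * g⁻¹ * x) * g := by rw [hxt]
        _ = s * (g⁻¹ * x * g) := by group
  rcases BpSpor.HeThree.classes htt ht1 with h | h
  · refine key _ h fun y hy hyz => ?_
    have S := KFacts.TwoSix.Sheet.sheet_of KFacts.He.Hyp.hyp.inj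
    rw [KFacts.He.Hyp.hyp.map_zz] at S
    exact (BpSpor.HeThree.card_sheet_three S (by rw [KFacts.He.Hyp.hyp.range]) hy hyz).trans (by norm_num)
  · refine key _ h fun y hy hya => ?_
    exact (BpSpor.HeThree.card_a_three hy hya).trans (by norm_num)

/-- an element of order 5 or 7 commuting with `x` of order 3 acts without fixed points on `O_2(C(x))` -/
theorem fix_one {x w : Spor.He} {p : ℕ} [hp : Fact p.Prime] (hp5 : ¬ p ∣ 288) (hx : orderOf x = 3)
    (hw : orderOf w = p) (hwx : Commute w x) {R : Subgroup Spor.He} (hR : IsPGroup 2 R)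
    (hRx : R ≤ centralizer ({x} : Set Spor.He)) (hn : ∀ n ∈ R, w * n * w⁻¹ ∈ R) : Nat.card R ≡ 1 [MOD p] := by
  have h2 : Fact (Nat.Prime 2) := ⟨Nat.prime_two⟩
  have h1 := BpSpor.Cen.card_fix hw hn
  have h3 : Nat.card ↥(R ⊓ centralizer ({w} : Set Spor.He)) = 1 := by
    have h4 : IsPGroup 2 ↥(R ⊓ centralizer ({w} : Set Spor.He)) := hR.to_le inf_le_left
    obtain ⟨n, hn⟩ := IsPGroup.iff_card.1 h4
    rcases Nat.eq_zero_or_pos n with rfl | hn0
    · rw [hn, pow_zero]
    · exfalso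
      obtain ⟨t, ht⟩ := exists_prime_orderOf_dvd_card' (G := ↥(R ⊓ centralizer ({w} : Set Spor.He))) 2
        (by rw [hn]; exact dvd_pow_self 2 (by omega))
      have hto : orderOf (t : Spor.He) = 2 := by rw [Subgroup.orderOf_coe, ht]
      have htR : (t : Spor.He) ∈ centralizer ({x} : Set Spor.He) := hRx t.2.1
      have htw := mem_centralizer_singleton_iff.1 t.2.2
      have h5 := inv_three hx hto (mem_centralizer_singleton_iff.1 htR).symm
      apply hp5
      refine dvd_trans ?_ h5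
      have h6 : w ∈ centralizer ({(t : Spor.He)} : Set Spor.He) ⊓ centralizer ({x} : Set Spor.He) :=
        ⟨mem_centralizer_singleton_iff.2 htw.symm, mem_centralizer_singleton_iff.2 hwx.eq⟩
      rw [← hw, ← Subgroup.orderOf_mk w h6]
      exact orderOf_dvd_natCard _
  rwa [h3] at h1

theorem core_A : pCore 2 ↥(centralizer ({wd XA} : Set Spor.He)) = ⊥ := by
  have h2 : Fact (Nat.Prime 2) := ⟨Nat.prime_two⟩
  have h5 : Fact (Nat.Prime 5) := ⟨by norm_num⟩
  have h7 : Fact (Nat.Prime 7) := ⟨by norm_num⟩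
  set C := centralizer ({wd XA} : Set Spor.He) with hC
  have hN := (Lib.Cores.pCore_normal (G := C) 2)
  set R : Subgroup Spor.He := (pCore 2 C).map C.subtype with hR
  have hRp : IsPGroup 2 R := (Lib.Cores.pCore_isPGroup (G := C) 2).map _
  have hRC : R ≤ C := by
    rintro _ ⟨r, -, rfl⟩
    exact r.2
  have hn : ∀ w ∈ C, ∀ n ∈ R, w * n * w⁻¹ ∈ R := by
    rintro w hw _ ⟨r, hr, rfl⟩
    exact ⟨(⟨w, hw⟩ * r * ⟨w, hw⟩⁻¹ :), hN.conj_mem r hr _, rfl⟩
  have k7 := fix_one (p := 7) (by norm_num) A_order u_order u_comm hRp hRC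
    (hn _ (mem_centralizer_singleton_iff.2 u_comm.eq))
  have k5 := fix_one (p := 5) (by norm_num) A_order v_order v_comm hRp hRC
    (hn _ (mem_centralizer_singleton_iff.2 v_comm.eq))
  obtain ⟨n, hcn⟩ := IsPGroup.iff_card.1 hRp
  have hd : 2 ^ n ∣ 4030387200 := by
    rw [← hcn, ← KFacts.He.Classes.card_he]
    exact Subgroup.card_subgroup_dvd_card _
  have hn10 : n ≤ 10 := by
    by_contra h
    have h1 : 2 ^ 11 ∣ 4030387200 := (pow_dvd_pow 2 (by omega)).trans hd
    exact absurd h1 (by norm_num)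
  rw [hcn] at k5 k7
  have hn0 : n = 0 := by
    unfold Nat.ModEq at k5 k7
    interval_cases n <;> first | rfl | (exfalso; revert k5 k7; decide)
  rw [hn0, pow_zero] at hcn
  have hb : R = ⊥ := Subgroup.card_eq_one.1 hcn
  rw [hR, Subgroup.map_eq_bot_iff_of_injective _ C.subtype_injective] at hb
  exact hb

/-- conjugate cyclic groups -/
theorem core_cent_eq {G : Type*} [Group G] {b y g : G} (h : zpowers (g * b * g⁻¹) = zpowers y)
    (hy : pCore 2 ↥(centralizer ({y} : Set G)) = ⊥) : pCore 2 ↥(centralizer ({b} : Set G)) = ⊥ := by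
  have h2 : centralizer ({y} : Set G) = centralizer ({MulAut.conj g b} : Set G) := by
    rw [MulAut.conj_apply, ← centralizer_closure {y}, ← centralizer_closure {g * b * g⁻¹}, ← zpowers_eq_closure,
      ← zpowers_eq_closure, h]
  rw [h2] at hy
  exact pCore_equiv (centEquiv (MulAut.conj g) b).symm hy

/-- **The elements of order 3.** -/
theorem three' {b : Spor.He} (hb : orderOf b = 3) : Nat.card ↥(centralizer ({b} : Set Spor.He)) ≤ 504 ∨
    pCore 2 ↥(centralizer ({b} : Set Spor.He)) = ⊥ := by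
  have h3 : Fact (Nat.Prime 3) := ⟨Nat.prime_three⟩
  have key : ∀ {y g : Spor.He}, g * y * g⁻¹ = wd XA → pCore 2 ↥(centralizer ({y} : Set Spor.He)) = ⊥ := by
    intro y g h
    exact core_cent_eq (b := y) (y := wd XA) (g := g) (by rw [h]) core_A
  have key2 : ∀ {y g : Spor.He}, g * y * g⁻¹ = wd XB → Nat.card ↥(centralizer ({y} : Set Spor.He)) ≤ 504 := by
    intro y g h
    rw [Heis.card_cent_eq (b := y) (y := wd XB) (g := g) (by rw [h])]
    exact cardB
  obtain ⟨y, hy, g, hg⟩ := Heis.reps3 A_pow U3_pow V3_pow A_U3 A_V3 U3_V3 (by norm_num) A_ne (not_dvd (by decide)) hb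
  rw [Heis.card_cent_eq hg]
  rcases hy with rfl | rfl | ⟨i, hi, rfl⟩
  · exact Or.inr (core_cent_eq hg core_A)
  · exact Or.inr (core_cent_eq hg (key g3u))
  · interval_cases i
    · rw [pow_zero, mul_one] at hg ⊢
      exact Or.inr (core_cent_eq hg (key g3v))
    · rw [pow_one, ← wd_append]
      exact Or.inl (key2 g3a)
    · rw [pow_two, ← wd_append, ← wd_append]
      exact Or.inl (key2 g3b)

/-! ### `7^{1+2} : 3^2` -/

theorem a_pow : wd Aw ^ 3 = 1 := pow_of_chk (by decide +kernel)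
theorem a_ne : wd Aw ≠ 1 := ne_one_of_act 0 (by decide +kernel)
theorem b_pow : wd Bw ^ 3 = 1 := pow_of_chk (by decide +kernel)
theorem ab_ne : wd (Bw ++ Aw) ≠ 1 := ne_one_of_act 0 (by decide +kernel)
theorem ab2_ne : wd (Bw ++ (Aw ++ Aw)) ≠ 1 := ne_one_of_act 0 (by decide +kernel)
theorem b_ne : wd Bw ≠ 1 := ne_one_of_act 0 (by decide +kernel)
theorem ab_comm : Commute (wd Aw) (wd Bw) := comm_of_chk (by decide +kernel)

theorem p1_pow : wd p1W ^ 7 = 1 := pow_of_chk (by decide +kernel)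
theorem p2_pow : wd p2W ^ 7 = 1 := pow_of_chk (by decide +kernel)
theorem z_pow : wd zW ^ 7 = 1 := pow_of_chk (by decide +kernel)
theorem z_ne : wd zW ≠ 1 := ne_one_of_act 0 (by decide +kernel)
theorem z_p1 : Commute (wd zW) (wd p1W) := comm_of_chk (by decide +kernel)
theorem z_p2 : Commute (wd zW) (wd p2W) := comm_of_chk (by decide +kernel)
theorem p2_p1 : wd p2W * wd p1W = wd p1W * wd p2W * wd zW ^ 1 := by
  have h := eq_of_chkB (v := p2W ++ p1W) (w := p1W ++ (p2W ++ zW)) (by decide +kernel)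
  rw [wd_append, wd_append, wd_append] at h
  rw [h, pow_one, mul_assoc]

/-- the Sylow 7-subgroup -/
noncomputable def P : Subgroup Spor.He := Heis.P z_p2 z_p1 p2_p1

theorem card_P : Nat.card P = 343 := by
  have h7 : Fact (Nat.Prime 7) := ⟨by norm_num⟩
  have h1 : 7 ^ 3 ∣ Nat.card P := Heis.card_P_dvd z_pow p2_pow p1_pow z_p2 z_p1 p2_p1 (by norm_num) z_ne
  have h2 : IsPGroup 7 P := Heis.isPGroup_P z_pow p2_pow p1_pow z_p2 z_p1 p2_p1
  obtain ⟨n, hn⟩ := IsPGroup.iff_card.mp h2
  have hd := P.card_subgroup_dvd_card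
  rw [hn, KFacts.He.Classes.card_he] at hd
  have hn3 : n ≤ 3 := by
    by_contra hcon
    have h1 : 7 ^ 4 ∣ 4030387200 := (pow_dvd_pow 7 (by omega)).trans hd
    exact absurd h1 (by norm_num)
  rw [hn] at h1 ⊢
  have h3 : 3 ≤ n := (Nat.pow_dvd_pow_iff_le_right (by norm_num)).1 h1
  have h4 : n = 3 := le_antisymm hn3 h3
  rw [h4]
  norm_num

theorem conjP {g v w : List Gen} (h : chkB (g ++ v) (w ++ g) = true) (hw : wd w ∈ P) : wd g * wd v * (wd g)⁻¹ ∈ P := by
  rw [conj_of_chk h]
  exact hw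

theorem m1 : wd p1W ∈ P := Heis.mem_P_v z_p2 z_p1 p2_p1
theorem m2 : wd p2W ∈ P := Heis.mem_P_u z_p2 z_p1 p2_p1
theorem m3 : wd zW ∈ P := Heis.mem_P_x z_p2 z_p1 p2_p1

theorem pwP {w : List Gen} (h : wd w ∈ P) (n : ℕ) : wd (pw w n) ∈ P := by
  rw [wd_pw]
  exact pow_mem h n

theorem appP {v w : List Gen} (h1 : wd v ∈ P) (h2 : wd w ∈ P) : wd (v ++ w) ∈ P := by
  rw [wd_append]
  exact mul_mem h1 h2

theorem norm_of {h : Spor.He} (h1 : h * wd p1W * h⁻¹ ∈ P) (h2 : h * wd p2W * h⁻¹ ∈ P) (h3 : h * wd zW * h⁻¹ ∈ P) :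
    h ∈ normalizer (P : Set Spor.He) := by
  have hle : P.map (MulAut.conj h).toMonoidHom ≤ P := by
    rintro _ ⟨_, ⟨j, i, l, rfl⟩, rfl⟩
    change h * (wd p1W ^ j * wd p2W ^ i * wd zW ^ l) * h⁻¹ ∈ P
    have e : h * (wd p1W ^ j * wd p2W ^ i * wd zW ^ l) * h⁻¹ =
        (h * wd p1W * h⁻¹) ^ j * (h * wd p2W * h⁻¹) ^ i * (h * wd zW * h⁻¹) ^ l := by
      rw [conj_pow, conj_pow, conj_pow]
      group
    rw [e]
    exact mul_mem (mul_mem (pow_mem h1 j) (pow_mem h2 i)) (pow_mem h3 l)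
  have heq : P.map (MulAut.conj h).toMonoidHom = P :=
    Subgroup.eq_of_le_of_card_ge hle (by rw [Subgroup.card_map_of_injective (MulAut.conj h).injective])
  rw [mem_normalizer_iff]
  intro n
  constructor
  · intro hn
    exact hle ⟨n, hn, rfl⟩
  · intro hn
    rw [← heq] at hn
    obtain ⟨m, hm, hmn⟩ := hn
    have : m = n := (MulAut.conj h).injective hmn
    rw [← this]
    exact hm

theorem a_norm : wd Aw ∈ normalizer (P : Set Spor.He) := by
  refine norm_of ?_ ?_ ?_
  · exact conjP (g := Aw) (v := p1W) (w := pw p2W 3 ++ zW) (by decide +kernel) (appP (pwP m2 3) m3)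
  · exact conjP (g := Aw) (v := p2W) (w := pw p1W 2 ++ (pw p2W 6 ++ zW)) (by decide +kernel)
      (appP (pwP m1 2) (appP (pwP m2 6) m3))
  · exact conjP (g := Aw) (v := zW) (w := zW) (by decide +kernel) m3

theorem b_norm : wd Bw ∈ normalizer (P : Set Spor.He) := by
  refine norm_of ?_ ?_ ?_
  · exact conjP (g := Bw) (v := p1W) (w := pw p1W 2 ++ pw zW 3) (by decide +kernel) (appP (pwP m1 2) (pwP m3 3))
  · exact conjP (g := Bw) (v := p2W) (w := pw p2W 2 ++ pw zW 5) (by decide +kernel) (appP (pwP m2 2) (pwP m3 5))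
  · exact conjP (g := Bw) (v := zW) (w := pw zW 4) (by decide +kernel) (pwP m3 4)

set_option linter.unusedSectionVars false

section

variable {G : Type*} [Group G] [Finite G]

theorem card_mul_relIndex {H K : Subgroup G} (h : H ≤ K) : Nat.card H * H.relIndex K = Nat.card K := by
  rw [Subgroup.relIndex, ← Nat.card_congr (Subgroup.subgroupOfEquivOfLe h).toEquiv]
  exact Subgroup.card_mul_index _

theorem card_sup_mul {K H : Subgroup G} (h : H ≤ normalizer (K : Set G)) :
    Nat.card (K ⊔ H : Subgroup G) * Nat.card (K ⊓ H : Subgroup G) = Nat.card K * Nat.card H := by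
  have hKn : (K.subgroupOf (K ⊔ H)).Normal :=
    normal_subgroupOf_of_le_normalizer (sup_le le_normalizer h)
  have h1 := relIndex_sup_left (H.subgroupOf (K ⊔ H)) (K.subgroupOf (K ⊔ H))
  rw [← Subgroup.subgroupOf_sup le_sup_left le_sup_right, Subgroup.subgroupOf_self,
    Subgroup.relIndex_subgroupOf le_sup_right, relIndex_top_right] at h1
  have h2 : Nat.card K * K.relIndex H = Nat.card (K ⊔ H : Subgroup G) := by
    rw [← h1]
    exact card_mul_relIndex le_sup_left
  have h3 : Nat.card (K ⊓ H : Subgroup G) * K.relIndex H = Nat.card H := by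
    rw [← Subgroup.inf_relIndex_right K H]
    exact card_mul_relIndex inf_le_right
  calc _ = Nat.card (K ⊔ H : Subgroup G) * Nat.card (K ⊓ H : Subgroup G) := rfl
    _ = Nat.card K * (Nat.card (K ⊓ H : Subgroup G) * K.relIndex H) := by rw [← h2]; ring
    _ = _ := by rw [h3]

/-- coprime orders -/
theorem card_sup_coprime {K H : Subgroup G} (h : H ≤ normalizer (K : Set G)) (hc : (Nat.card K).Coprime (Nat.card H)) :
    Nat.card (K ⊔ H : Subgroup G) = Nat.card K * Nat.card H := by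
  have h1 : Nat.card (K ⊓ H : Subgroup G) = 1 :=
    Nat.eq_one_of_dvd_coprimes hc (Subgroup.card_dvd_of_le inf_le_left) (Subgroup.card_dvd_of_le inf_le_right)
  have h2 := card_sup_mul h
  rwa [h1, mul_one] at h2

end

/-- the group `3^2` -/
def T : Subgroup Spor.He := zpowers (wd Aw) ⊔ zpowers (wd Bw)

theorem a_order : orderOf (wd Aw) = 3 := orderOf_of (by norm_num) a_pow a_ne
theorem b_order : orderOf (wd Bw) = 3 := orderOf_of (by norm_num) b_pow b_ne

theorem T_le : T ≤ normalizer (P : Set Spor.He) := by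
  unfold T
  rw [sup_le_iff, zpowers_le, zpowers_le]
  exact ⟨a_norm, b_norm⟩

theorem not_mem : wd Bw ∉ zpowers (wd Aw) := by
  intro h
  obtain ⟨k, hk⟩ := mem_zpowers_iff.1 h
  have h3 : wd Aw ^ (3 : ℤ) = 1 := by exact_mod_cast a_pow
  have hk' : wd Aw ^ (k % 3) = wd Bw := by
    rw [← hk]
    conv_rhs => rw [← Int.emod_add_mul_ediv k 3, zpow_add, zpow_mul, h3, one_zpow, mul_one]
  have hk0 : k % 3 = 0 ∨ k % 3 = 1 ∨ k % 3 = 2 := by omega
  rcases hk0 with e | e | e
  · rw [e, zpow_zero] at hk'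
    exact b_ne hk'.symm
  · rw [e, zpow_one] at hk'
    apply ab2_ne
    rw [wd_append, wd_append, ← hk', ← pow_two, ← pow_succ']
    exact a_pow
  · rw [e] at hk'
    apply ab_ne
    rw [wd_append, ← hk']
    have : wd Aw ^ (2 : ℤ) * wd Aw = wd Aw ^ 3 := by
      rw [show (2 : ℤ) = ((2 : ℕ) : ℤ) by norm_num, zpow_natCast, ← pow_succ]
    rw [this]
    exact a_pow

theorem card_T : Nat.card T = 9 := by
  have h3 : Fact (Nat.Prime 3) := ⟨Nat.prime_three⟩
  have hn : zpowers (wd Bw) ≤ normalizer (zpowers (wd Aw) : Set Spor.He) := by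
    rw [zpowers_le]
    refine (centralizer_le_normalizer _) ?_
    rw [mem_centralizer_iff]
    rintro y hy
    obtain ⟨k, rfl⟩ := mem_zpowers_iff.1 hy
    exact (ab_comm.zpow_left k).eq
  have h1 := card_sup_mul hn
  rw [Nat.card_zpowers, Nat.card_zpowers, a_order, b_order] at h1
  have h2 : Nat.card (zpowers (wd Aw) ⊓ zpowers (wd Bw) : Subgroup Spor.He) = 1 := by
    have h4 : Nat.card (zpowers (wd Aw) ⊓ zpowers (wd Bw) : Subgroup Spor.He) ∣ 3 := by
      rw [← b_order, ← Nat.card_zpowers]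
      exact Subgroup.card_dvd_of_le inf_le_right
    rcases (Nat.dvd_prime Nat.prime_three).1 h4 with h5 | h5
    · exact h5
    · exfalso
      have h6 : zpowers (wd Aw) ⊓ zpowers (wd Bw) = zpowers (wd Bw) :=
        Subgroup.eq_of_le_of_card_ge inf_le_right (by rw [Nat.card_zpowers, b_order, h5])
      apply not_mem
      have h7 := mem_zpowers (wd Bw)
      rw [← h6] at h7
      exact h7.1
  rw [h2, mul_one] at h1
  exact h1

theorem card_Q : Nat.card (P ⊔ T : Subgroup Spor.He) = 3087 := by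
  rw [card_sup_coprime T_le (by rw [card_P, card_T]; norm_num), card_P, card_T]

/-! ### Order 5 (words and checks of helper436) -/

def X5 : List Gen := [.a, .c, .d]
def Y5 : List Gen := [
  .a, .g, .d, .b, .c, .d, .f, .d, .c, .d, .b, .c, .d, .f, .b, .c, .d, .c, .b, .a, .b, .c, .d, .c, .b, .f, .d,
  .c, .b, .d, .c, .d, .f, .d, .c, .b, .d, .g]
def G1 : List Gen := [
  .b, .g, .d, .c, .f, .d, .g, .e, .d, .f, .e, .c, .d, .g, .b]
def G2 : List Gen := [
  .e, .d, .c, .b, .g, .d, .e, .f, .d, .c, .d, .f, .g, .d, .b, .c, .d, .g, .b]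
def G3 : List Gen := [
  .b, .g, .d, .c, .b, .e, .d, .c, .d, .f, .g, .d, .c, .d, .f, .g, .b]
def G4 : List Gen := [
  .a, .b, .g, .d, .c, .b, .e, .d, .c, .d, .f, .g, .d, .c, .d, .f, .g, .b]
def G5 : List Gen := [
  .a, .e, .d, .c, .b, .g, .d, .e, .f, .d, .c, .d, .f, .g, .d, .b, .c, .d, .g, .b]

def l5 : List Stp := [⟨27, [], [1, 2], 150⟩, ⟨123, [45, 47, 29], [1, 2], 2⟩, ⟨0, [123], [1, 2], 1⟩,
  ⟨1, [45, 29, 122], [1, 2], 1⟩, ⟨8, [176, 123, 421], [1, 2], 1⟩, ⟨32, [27, 292, 45, 47, 176], [1, 2], 1⟩]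

theorem run5 : run X5 l5 [] = true := by
  rw [Cfsg.Agent.H19.Odd.HeCnt.scrFast_eq]
  decide +kernel

theorem card5 : Nat.card ↥(centralizer ({wd X5} : Set Spor.He)) ≤ 300 := card_le run5 (by decide)

theorem x5_pow : wd X5 ^ 5 = 1 := pow_of_chk (by decide +kernel)
theorem y5_pow : wd Y5 ^ 5 = 1 := pow_of_chk (by decide +kernel)
theorem y5_ne : wd Y5 ≠ 1 := ne_one_of_act 207 (by decide +kernel)
theorem y5_x5 : wd Y5 * wd X5 = wd X5 * wd Y5 := (comm_of_chk (by decide +kernel)).eq

theorem conj5 {g w : List Gen} {k l : ℕ} (hkl : (wd X5 ^ k) ^ l = wd X5) (h : chkB (g ++ pw X5 k) (w ++ g) = true) :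
    Nat.card ↥(centralizer ({wd w} : Set Spor.He)) ≤ 300 := by
  have h1 := conj_of_chk h
  rw [wd_pw] at h1
  have h2 := Heis.card_cent_eq (b := wd X5 ^ k) (y := wd w) (g := wd g) (by rw [h1])
  have h3 := Heis.card_cent_eq (b := wd X5 ^ k) (y := wd X5) (g := 1) (by
    rw [one_mul, inv_one, mul_one]
    apply le_antisymm
    · rw [zpowers_le]
      exact pow_mem (mem_zpowers (wd X5)) k
    · rw [zpowers_le]
      have h4 := pow_mem (mem_zpowers (wd X5 ^ k)) l
      rwa [hkl] at h4)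
  rw [← h2, h3]
  exact card5

theorem x5_two : (wd X5 ^ 2) ^ 3 = wd X5 := by
  rw [← pow_mul]
  calc wd X5 ^ (2 * 3) = wd X5 ^ 5 * wd X5 := by rw [← pow_succ]
    _ = wd X5 := by rw [x5_pow, one_mul]

theorem x5_four : (wd X5 ^ 4) ^ 4 = wd X5 := by
  rw [← pow_mul]
  calc wd X5 ^ (4 * 4) = (wd X5 ^ 5) ^ 3 * wd X5 := by rw [← pow_mul, ← pow_succ]
    _ = wd X5 := by rw [x5_pow, one_pow, one_mul]

theorem x5_ne_pow (n : ℕ) (hn : n < 5) : wd X5 * wd Y5 ^ n ≠ 1 := by
  rw [← wd_pw, ← wd_append]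
  interval_cases n
  · exact ne_one_of_act 1 (by decide +kernel)
  · exact ne_one_of_act 1 (by decide +kernel)
  · exact ne_one_of_act 1 (by decide +kernel)
  · exact ne_one_of_act 1 (by decide +kernel)
  · exact ne_one_of_act 1 (by decide +kernel)

theorem x5_not_mem : wd X5 ∉ zpowers (wd Y5) := by
  intro h
  have h1 : (wd X5)⁻¹ ∈ zpowers (wd Y5) := inv_mem h
  rw [← mem_powers_iff_mem_zpowers] at h1
  obtain ⟨k, hk⟩ := h1
  have hk' : wd Y5 ^ k = (wd X5)⁻¹ := hk
  have h2 : wd Y5 ^ (k % 5) = (wd X5)⁻¹ := by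
    rw [← hk']
    conv_rhs => rw [← Nat.mod_add_div k 5, pow_add, pow_mul, y5_pow, one_pow, mul_one]
  exact x5_ne_pow (k % 5) (Nat.mod_lt _ (by norm_num)) (by rw [h2, mul_inv_cancel])

theorem five {b : Spor.He} (hb : orderOf b = 5) : Nat.card ↥(centralizer ({b} : Set Spor.He)) ≤ 300 := by
  have h5 : Fact (Nat.Prime 5) := ⟨by norm_num⟩
  obtain ⟨y, hy, g, hg⟩ := Heis.reps2 y5_pow x5_pow y5_x5 y5_ne x5_not_mem (not_dvd (by decide)) hb
  rw [Heis.card_cent_eq hg]
  rcases hy with rfl | ⟨i, hi, rfl⟩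
  · exact conj5 (g := G1) (k := 2) x5_two (by decide +kernel)
  · interval_cases i
    · rw [pow_zero, mul_one]
      exact card5
    · rw [pow_one, ← wd_append]
      exact conj5 (g := G2) (k := 4) x5_four (by decide +kernel)
    · rw [← wd_pw, ← wd_append]
      exact conj5 (g := G3) (k := 4) x5_four (by decide +kernel)
    · rw [← wd_pw, ← wd_append]
      exact conj5 (g := G4) (k := 4) x5_four (by decide +kernel)
    · rw [← wd_pw, ← wd_append]
      exact conj5 (g := G5) (k := 4) x5_four (by decide +kernel)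

theorem prime_cases {q : ℕ} (hq : q.Prime) (h : q ∣ 4030387200) : q = 2 ∨ q = 3 ∨ q = 5 ∨ q = 7 ∨ q = 17 := by
  have e : (4030387200 : ℕ) = 2 ^ 10 * (3 ^ 3 * (5 ^ 2 * (7 ^ 3 * 17))) := by norm_num
  rw [e] at h
  have key : ∀ {r n : ℕ}, r.Prime → q ∣ r ^ n → q = r := fun hr h =>
    (Nat.prime_dvd_prime_iff_eq hq hr).1 (hq.dvd_of_dvd_pow h)
  rcases (Nat.Prime.dvd_mul hq).1 h with h | h
  · exact Or.inl (key Nat.prime_two h)
  rcases (Nat.Prime.dvd_mul hq).1 h with h | h
  · exact Or.inr (Or.inl (key Nat.prime_three h))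
  rcases (Nat.Prime.dvd_mul hq).1 h with h | h
  · exact Or.inr (Or.inr (Or.inl (key (by norm_num) h)))
  rcases (Nat.Prime.dvd_mul hq).1 h with h | h
  · exact Or.inr (Or.inr (Or.inr (Or.inl (key (by norm_num) h))))
  · exact Or.inr (Or.inr (Or.inr (Or.inr ((Nat.prime_dvd_prime_iff_eq hq (by norm_num)).1 h))))

/-- groups of odd order -/
theorem core_of_odd {H : Type*} [Group H] [Finite H] (h : Odd (Nat.card H)) : pCore 2 H = ⊥ := by
  have h1 := (Lib.Cores.pCore_isPGroup (G := H) 2)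
  have : Fact (Nat.Prime 2) := ⟨Nat.prime_two⟩
  obtain ⟨n, hn⟩ := IsPGroup.iff_card.1 h1
  have h2 : 2 ^ n ∣ Nat.card H := by
    rw [← hn]
    exact Subgroup.card_subgroup_dvd_card _
  have h3 : n = 0 := by
    by_contra h0
    have h4 : 2 ∣ Nat.card H := (dvd_pow_self 2 h0).trans h2
    exact (Nat.not_even_iff_odd.2 h) (even_iff_two_dvd.2 h4)
  rw [h3, pow_zero] at hn
  exact Subgroup.card_eq_one.1 hn

/-- **`FactA`.** -/
theorem factA : FactA Spor.He := by
  refine ⟨P ⊔ T, ?_, fun w hw hw2 => ?_⟩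
  · rw [card_Q]
    decide
  rw [card_Q]
  rcases prime_cases hw (by rw [← KFacts.He.Classes.card_he]; exact orderOf_dvd_natCard w) with h | h | h | h | h
  · exact absurd h hw2
  · rcases three' h with h1 | h1
    · exact Or.inr (by omega)
    · exact Or.inl h1
  · have h1 := five h
    exact Or.inr (by omega)
  · by_cases ho : Odd (Nat.card ↥(centralizer ({w} : Set Spor.He)))
    · exact Or.inl (core_of_odd ho)
    · have h1 := CpAutHe.Seven.card_le h ho
      exact Or.inr (by omega)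
  · have h1 := seventeen h
    exact Or.inr (by omega)

/-! ### `FactB` -/

section

open Cfsg.Agent.H652.Four
open Cfsg.Agent.ONType.Psl (PSL3)
open Cfsg.Agent.Blocks.LocalRing
open Cfsg.Agent.H326.Four
open Cfsg.Agent.KFacts.He.TwoACent Cfsg.Agent.KFacts.He.TwoAPlane

/-- the elements of order 3 with `O_2(C(y)) = 1` -/
def Y (L : Type*) [Group L] : Set L := {y | orderOf y = 3 ∧ pCore 2 ↥(centralizer ({y} : Set L)) = ⊥}

theorem Y_inv {L : Type*} [Group L] (β : MulAut L) {y : L} (hy : y ∈ Y L) : β y ∈ Y L :=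
  ⟨by rw [MulEquiv.orderOf_eq]; exact hy.1, pCore_equiv (centEquiv β y) hy.2⟩

/-- a set of elements of order 3 meeting `C(P)`, `C(P)/P ≅ PSL(3,4)` -/
theorem nn_of_cent {S : Type u} [Group S] [Finite S] {P : Subgroup S} {M : Ideal AlgInt} (hM : IsPModular 2 M)
    (hP : IsPGroup 2 P) (hPC : P ≤ centralizer (P : Set S)) (φ : centralizer (P : Set S) →* PSL3)
    (hφ : Function.Surjective φ) (hker : ∀ c, φ c = 1 → (c : S) ∈ P) {x : S} (hx : x ∈ Y S)
    (hxC : x ∈ centralizer (P : Set S)) : NN M (ind (Y S)) := by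
  classical
  have hx' : orderOf (⟨x, hxC⟩ : centralizer (P : Set S)) = 3 := by rw [Subgroup.orderOf_mk]; exact hx.1
  have hinv : ∀ g y : S, ind (Y S) (g * y * g⁻¹) = ind (Y S) y := by
    intro g y
    have h1 : ∀ (g y : S), y ∈ Y S → g * y * g⁻¹ ∈ Y S := fun g y hy => Y_inv (MulAut.conj g) hy
    by_cases hy : y ∈ Y S
    · rw [ind_pos hy, ind_pos (h1 g y hy)]
    · rw [ind_neg hy, ind_neg]
      intro hy'
      apply hy
      have h2 := h1 g⁻¹ _ hy'
      have h3 : g⁻¹ * (g * y * g⁻¹) * g⁻¹⁻¹ = y := by group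
      rwa [h3] at h2
  refine NN.brauer hM hP hPC hinv (fun g => ?_) ?_
  · by_cases h : g ∈ Y S
    · rw [ind_pos h]
      simpa using memLocalRing_natCast hM 1
    · rw [ind_neg h]
      simpa using memLocalRing_natCast hM 0
  · have he : (fun h : centralizer (P : Set S) => ind (Y S) (h : S)) = cl (⟨x, hxC⟩ : centralizer (P : Set S)) := by
      funext h
      by_cases hc : IsConj (⟨x, hxC⟩ : centralizer (P : Set S)) h
      · rw [cl_pos hc, ind_pos]
        obtain ⟨g, hg⟩ := isConj_iff.1 hc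
        rw [← hg]
        exact Y_inv (MulAut.conj (g : S)) hx
      · rw [cl_neg hc, ind_neg]
        intro hc'
        apply hc
        refine conj_in_cent hP φ hφ hker hx' ?_
        rw [← Subgroup.orderOf_coe]
        exact hc'.1
    rw [he]
    refine NN.quot_central (p := 2) hφ ?_ ?_ (by rw [hx']; norm_num) (nn_three hM (order_map hP φ hker hx'))
    · intro c hc
      rw [mem_center_iff]
      intro g
      apply Subtype.ext
      exact (mem_centralizer_iff.1 g.2 _ (hker c hc)).symm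
    · intro c
      obtain ⟨k, hk⟩ := hP ⟨((c : centralizer (P : Set S)) : S), hker c c.2⟩
      refine ⟨k, Subtype.ext (Subtype.ext ?_)⟩
      simpa using congrArg Subtype.val hk

theorem xA_a : wd XA * gn .a = gn .a * wd XA := by
  have h : Commute (wd XA) (wd [.a]) := comm_of_chk (by decide +kernel)
  exact h.eq

theorem factB : FactB Spor.He := by
  refine ⟨Y Spor.He, fun β y hy => Y_inv β hy, ?_, fun M hM => ?_⟩
  · intro y hy
    refine ⟨?_, hy.2⟩
    rintro rfl
    have h1 := hy.1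
    rw [orderOf_one] at h1
    omega
  · refine nn_of_cent (P := V) hM ?_ ?_ (Th.comp (MulEquiv.subgroupCongr RowHe.cent_eq).toMonoidHom) ?_ ?_
      (x := wd XA) ⟨A_order, core_A⟩ ?_
    · exact IsPGroup.of_card (n := 2) (by rw [card_V]; norm_num)
    · rw [RowHe.cent_eq]
      exact V_le_L
    · exact Th_surjective.comp (MulEquiv.subgroupCongr RowHe.cent_eq).surjective
    · intro c hc
      have h1 : (MulEquiv.subgroupCongr RowHe.cent_eq) c ∈ Th.ker := hc
      rw [ker_Th] at h1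
      exact mem_subgroupOf.1 h1
    · rw [RowHe.cent_eq]
      exact BpSpor.HeThree.mem_L A_order xA_a

end

/-! ### Transfer -/

/-- centralizers and isomorphisms -/
noncomputable def cEq {L K : Type*} [Group L] [Group K] (e : L ≃* K) (y : L) :
    ↥(centralizer ({y} : Set L)) ≃* ↥(centralizer ({e y} : Set K)) :=
  (e.subgroupMap (centralizer ({y} : Set L))).trans (MulEquiv.subgroupCongr (by
    ext g
    rw [mem_centralizer_singleton_iff]
    constructor
    · rintro ⟨s, hs, rfl⟩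
      have h1 := mem_centralizer_singleton_iff.1 hs
      change e s * e y = e y * e s
      rw [← map_mul, ← map_mul, h1]
    · intro h
      refine ⟨e.symm g, ?_, e.apply_symm_apply g⟩
      change e.symm g ∈ centralizer ({y} : Set L)
      rw [mem_centralizer_singleton_iff]
      apply e.injective
      rw [map_mul, map_mul, e.apply_symm_apply]
      exact h))

theorem factA_of_equiv {L : Type u} {K : Type*} [Group L] [Finite L] [Group K] (e : L ≃* K) (h : FactA K) : FactA L := by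
  obtain ⟨Q, hQ, hall⟩ := h
  have hc : Nat.card (Q.comap e.toMonoidHom) = Nat.card Q :=
    Nat.card_congr (e.toEquiv.subtypeEquiv fun _ => Iff.rfl)
  refine ⟨Q.comap e.toMonoidHom, by rw [hc]; exact hQ, fun w hw hw2 => ?_⟩
  rw [hc]
  have ho : orderOf (e w) = orderOf w := MulEquiv.orderOf_eq e w
  rcases hall (e w) (by rw [ho]; exact hw) (by rw [ho]; exact hw2) with h1 | h1
  · left
    exact pCore_equiv (cEq e w).symm h1
  · right
    rw [Nat.card_congr (cEq e w).toEquiv]
    exact h1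

theorem factB_of_equiv {L : Type u} {K : Type*} [Group L] [Finite L] [Group K] [Finite K] (e : L ≃* K) (h : FactB K) :
    FactB L := by
  obtain ⟨Y, hY, hYO, hN⟩ := h
  refine ⟨e ⁻¹' Y, ?_, ?_, ?_⟩
  · intro β y hy
    have h1 := hY ((e.symm.trans β).trans e) (e y) hy
    have h2 : ((e.symm.trans β).trans e) (e y) = e (β y) := by
      change e (β (e.symm (e y))) = _
      rw [e.symm_apply_apply]
    rwa [h2] at h1
  · intro y hy
    obtain ⟨h1, h2⟩ := hYO (e y) hy
    refine ⟨?_, pCore_equiv (cEq e y).symm h2⟩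
    rintro rfl
    exact h1 (map_one e)
  · intro M hM
    classical
    have := Fintype.ofFinite L
    have := Fintype.ofFinite K
    refine H652.Four.NN.quot (Q := K) (φ := e.toMonoidHom) e.surjective (F' := ind Y) ?_ (hN M hM)
    intro q
    rw [Finset.sum_eq_single (e.symm q)]
    · by_cases h : q ∈ Y
      · rw [ind_pos h]
        exact ind_pos (by
          change e (e.symm q) ∈ Y
          rwa [e.apply_symm_apply])
      · rw [ind_neg h]
        exact ind_neg (by
          change ¬ e (e.symm q) ∈ Y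
          rwa [e.apply_symm_apply])
    · intro b hb hbq
      exfalso
      apply hbq
      have h1 : e b = q := (Finset.mem_filter.1 hb).2
      rw [← h1, e.symm_apply_apply]
    · intro h1
      exfalso
      apply h1
      rw [Finset.mem_filter]
      exact ⟨Finset.mem_univ _, e.apply_symm_apply q⟩

/-- **The row of `He`.** -/
theorem row {L : Type u} [Group L] [Finite L] (h : Cfsg.Spor.IsoHe L) (B : Base L) : Row 2 L := by
  obtain ⟨e⟩ := h
  exact row_of_facts B (factA_of_equiv e factA) (factB_of_equiv e factB)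

end Cfsg.Agent.H736.S4095.He
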